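import Groth.Prelude.Def_SGA3b
import Groth.Agent.Lib.Weight.Bound
import Groth.Agent.Lib.Hopf.CharZeroReduced
import Groth.Agent.Lib.MultLocal.TorsionField
import Mathlib

/-!
# Quasi-finite commutative affine groups are killed by an integer
-/

set_option autoImplicit false
set_option linter.style.haveILetI false
universe u

open TensorProduct WithConv Coalgebra Bialgebra

noncomputable section

namespace GrothLib.QFKill14

variable {R : Type u} [CommRing R] {C : Type u} [CommRing C]

section Bialg

variable [Bialgebra R C]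

local notation "ε" => Bialgebra.counitAlgHom R C

theorem sub_mem_aug (x : C) : x - algebraMap R C (ε x) ∈ RingHom.ker (Bialgebra.counitAlgHom R C) := by
  rw [RingHom.mem_ker, map_sub, AlgHom.commutes, Algebra.algebraMap_self, RingHom.id_apply, sub_self]

/-- To first order at the unit section, multiplication of points is addition. -/
theorem convMul_apply_of_first_order {D : Type u} [CommRing D] [Algebra R D] (f g : C →ₐ[R] D)
    (h : ∀ p q : C, p ∈ RingHom.ker (Bialgebra.counitAlgHom R C) → q ∈ RingHom.ker (Bialgebra.counitAlgHom R C) →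
      f p * g q = 0) {a : C} (ha : a ∈ RingHom.ker (Bialgebra.counitAlgHom R C)) :
    (toConv f * toConv g : WithConv (C →ₐ[R] D)) a = f a + g a := by
  let 𝓡 := ℛ R a
  have ha' : ε a = 0 := ha
  have e1 : ∑ i ∈ 𝓡.index, counit (R := R) (𝓡.left i) • 𝓡.right i = a := by
    have := congrArg (TensorProduct.lid R C) (sum_counit_tmul_eq 𝓡)
    simpa only [map_sum, TensorProduct.lid_tmul, one_smul] using this
  have e2 : ∑ i ∈ 𝓡.index, counit (R := R) (𝓡.right i) • 𝓡.left i = a := by
    have := congrArg (TensorProduct.rid R C) (sum_tmul_counit_eq 𝓡)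
    simpa only [map_sum, TensorProduct.rid_tmul, one_smul] using this
  rw [AlgHom.convMul_apply, ← 𝓡.eq, map_sum]
  simp only [Algebra.TensorProduct.lift_tmul, ofConv_toConv]
  have key : ∀ p q : C, f p * g q = g (ε p • q) + f (ε q • p) - algebraMap R D (ε p * ε q) := by
    intro p q
    have := h _ _ (sub_mem_aug p) (sub_mem_aug q)
    rw [map_sub, map_sub, AlgHom.commutes, AlgHom.commutes] at this
    rw [map_smul, map_smul, Algebra.smul_def, Algebra.smul_def, map_mul]
    linear_combination this
  simp only [key]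
  rw [Finset.sum_sub_distrib, Finset.sum_add_distrib, ← map_sum g, ← map_sum f, ← map_sum (algebraMap R D)]
  have e3 : ∑ i ∈ 𝓡.index, ε (𝓡.left i) * ε (𝓡.right i) = 0 := by
    rw [← ha']
    conv_rhs => rw [← e1, map_sum]
    exact Finset.sum_congr rfl fun i _ => by rw [map_smul, smul_eq_mul]; rfl
  change g (∑ i ∈ 𝓡.index, counit (R := R) (𝓡.left i) • 𝓡.right i) +
    f (∑ i ∈ 𝓡.index, counit (R := R) (𝓡.right i) • 𝓡.left i) - _ = _
  rw [e1, e2, e3, map_zero, sub_zero, add_comm]

/-- The first order deviation at the unit section. -/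
abbrev Q (R C : Type u) [CommRing R] [CommRing C] [Bialgebra R C] : Type u :=
  C ⧸ (LinearMap.range (Algebra.linearMap R C) ⊔
    (RingHom.ker (Bialgebra.counitAlgHom R C) * RingHom.ker (Bialgebra.counitAlgHom R C)).restrictScalars R)

/-- The differential at the unit section. -/
def dlt : C →ₗ[R] Q R C := Submodule.mkQ _

theorem dlt_algebraMap (r : R) : dlt (R := R) (algebraMap R C r) = 0 :=
  (Submodule.Quotient.mk_eq_zero _).2 (Submodule.mem_sup_left ⟨r, rfl⟩)

theorem dlt_mul (x y : C) : dlt (R := R) (x * y) = ε x • dlt (R := R) y + ε y • dlt (R := R) x := by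
  rw [← map_smul, ← map_smul, ← map_add, ← sub_eq_zero, ← map_sub]
  refine (Submodule.Quotient.mk_eq_zero _).2 ?_
  have : x * y - (ε x • y + ε y • x) =
      algebraMap R C (-(ε x * ε y)) + (x - algebraMap R C (ε x)) * (y - algebraMap R C (ε y)) := by
    rw [Algebra.smul_def, Algebra.smul_def, map_neg, map_mul]
    ring
  rw [this]
  exact Submodule.add_mem_sup ⟨_, rfl⟩ (Ideal.mul_mem_mul (sub_mem_aug x) (sub_mem_aug y))

theorem nsmul_mem_sq {m : ℕ} {a : C} (ha : a ∈ RingHom.ker (Bialgebra.counitAlgHom R C))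
    (h : m • dlt (R := R) a = 0) :
    (m : C) * a ∈ RingHom.ker (Bialgebra.counitAlgHom R C) * RingHom.ker (Bialgebra.counitAlgHom R C) := by
  rw [← map_nsmul, nsmul_eq_mul] at h
  obtain ⟨_, ⟨r, rfl⟩, b, hb, hrb⟩ := Submodule.mem_sup.1 ((Submodule.Quotient.mk_eq_zero _).1 h)
  have h1 := congrArg ε hrb
  rw [map_add, Algebra.linearMap_apply, AlgHom.commutes, map_mul, RingHom.mem_ker.1 ha, mul_zero,
    RingHom.mem_ker.1 (Ideal.mul_le_right hb), add_zero, Algebra.algebraMap_self, RingHom.id_apply] at h1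
  rw [← hrb, Algebra.linearMap_apply, h1, map_zero, zero_add]
  exact hb

theorem finite_Q [Algebra.FiniteType R C] : Module.Finite R (Q R C) := by
  obtain ⟨s, hs⟩ := ‹Algebra.FiniteType R C›.out
  classical
  refine ⟨⟨s.image (dlt (R := R)), eq_top_iff.2 fun z hz => ?_⟩⟩
  clear hz
  obtain ⟨x, rfl⟩ := Submodule.Quotient.mk_surjective _ z
  have hx : x ∈ Algebra.adjoin R (s : Set C) := hs ▸ Algebra.mem_top
  show dlt (R := R) x ∈ _
  induction hx using Algebra.adjoin_induction with
  | mem y hy => exact Submodule.subset_span (Finset.mem_image_of_mem _ hy)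
  | algebraMap r => rw [dlt_algebraMap]; exact zero_mem _
  | add y y' _ _ h h' => rw [map_add]; exact add_mem h h'
  | mul y y' _ _ h h' => rw [dlt_mul]; exact add_mem (Submodule.smul_mem _ _ h') (Submodule.smul_mem _ _ h)

end Bialg

section Hopf

variable [HopfAlgebra R C]

/-- In characteristic zero, a finite group has no infinitesimal deformations at the unit. -/
theorem subsingleton_tensor_Q [Algebra.FiniteType R C] [Algebra.QuasiFinite R C] (p : PrimeSpectrum R)
    [CharZero p.asIdeal.ResidueField] : Subsingleton (p.asIdeal.ResidueField ⊗[R] Q R C) := by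
  let Ω := p.asIdeal.ResidueField
  let F := Ω ⊗[R] C
  haveI : Module.Finite Ω F := Algebra.QuasiFinite.finite_fiber p.asIdeal
  haveI : _root_.IsReduced F := GrothLib.Hopf.CharZeroReduced.isReduced (k := Ω)
  haveI : IsArtinianRing F := IsArtinianRing.of_finite Ω F
  let ψ : F →ₗ[R] Ω ⊗[R] Q R C := (dlt (R := R) (C := C)).lTensor Ω
  let e : F →ₐ[Ω] Ω := Bialgebra.counitAlgHom Ω F
  have he : ∀ (w : Ω) (c : C), e (w ⊗ₜ c) = algebraMap R Ω (Bialgebra.counitAlgHom R C c) * w := fun w c => by
    show Coalgebra.counit (R := Ω) (w ⊗ₜ[R] c) = _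
    rw [TensorProduct.counit_tmul, CommSemiring.counit_apply, Algebra.smul_def]
    rfl
  have hmul : ∀ z z' : Ω ⊗[R] C, ψ (z * z') = e z • ψ z' + e z' • ψ z := by
    intro z z'
    induction z using TensorProduct.induction_on with
    | zero => simp
    | add a b ha hb => rw [add_mul, map_add, ha, hb, map_add, map_add, add_smul, smul_add]; abel
    | tmul w c =>
      induction z' using TensorProduct.induction_on with
      | zero => simp
      | add a b ha hb => rw [mul_add, map_add, ha, hb, map_add, map_add, add_smul, smul_add]; abel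
      | tmul w' c' =>
        rw [Algebra.TensorProduct.tmul_mul_tmul]
        rw [he, he]
        show (w * w') ⊗ₜ dlt (R := R) (c * c') =
          _ • (w' ⊗ₜ dlt (R := R) c') + _ • (w ⊗ₜ dlt (R := R) c)
        rw [dlt_mul, TensorProduct.tmul_add, TensorProduct.tmul_smul, TensorProduct.tmul_smul,
          TensorProduct.smul_tmul', TensorProduct.smul_tmul', TensorProduct.smul_tmul', TensorProduct.smul_tmul']
        simp only [Algebra.smul_def, Algebra.algebraMap_self, RingHom.id_apply, smul_eq_mul]
        congr 2 <;> ring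
  have hone : ∀ w : Ω, ψ (algebraMap Ω F w) = 0 := fun w => by
    rw [Algebra.TensorProduct.algebraMap_apply, Algebra.algebraMap_self, RingHom.id_apply]
    show w ⊗ₜ[R] dlt (R := R) (1 : C) = 0
    rw [← map_one (algebraMap R C), dlt_algebraMap, TensorProduct.tmul_zero]
  have hker : ∀ z ∈ RingHom.ker e, ψ z = 0 := by
    haveI : IsSemisimpleRing F := IsArtinianRing.isSemisimpleRing_of_isReduced F
    obtain ⟨i, hi, hI⟩ := IsSemisimpleRing.ideal_eq_span_idempotent (RingHom.ker e)
    intro z hz
    rw [hI] at hz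
    obtain ⟨y, rfl⟩ := Ideal.mem_span_singleton'.1 hz
    have hie : e i = 0 := by
      rw [← RingHom.mem_ker, hI]
      exact Ideal.mem_span_singleton_self _
    have h2 : e (y * i) = 0 := by rw [map_mul, hie, mul_zero]
    rw [← hi.eq, ← mul_assoc, hmul, hie, h2, zero_smul, zero_smul, add_zero]
  refine subsingleton_of_forall_eq 0 fun z => ?_
  obtain ⟨y, rfl⟩ := LinearMap.lTensor_surjective Ω (Submodule.mkQ_surjective _) z
  show ψ y = 0
  rw [← sub_add_cancel y (algebraMap Ω F (e y)), map_add, hone, add_zero]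
  exact hker _ (by rw [RingHom.mem_ker, map_sub, AlgHom.commutes, Algebra.algebraMap_self, RingHom.id_apply, sub_self])

/-- An integer carrying the augmentation ideal into its square. -/
theorem exists_nat_mul_mem_sq [Algebra.FiniteType R C] [Algebra.QuasiFinite R C] :
    ∃ m : ℕ, 0 < m ∧ ∀ a ∈ RingHom.ker (Bialgebra.counitAlgHom R C),
      (m : C) * a ∈ RingHom.ker (Bialgebra.counitAlgHom R C) * RingHom.ker (Bialgebra.counitAlgHom R C) := by
  haveI := finite_Q (R := R) (C := C)
  by_contra hc
  push Not at hc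
  let S : Submonoid R := Submonoid.map (Nat.castRingHom R).toMonoidHom
    { carrier := {m : ℕ | 0 < m}, one_mem' := Nat.one_pos, mul_mem' := fun ha hb => Nat.mul_pos ha hb }
  obtain ⟨P, hP, hann, hdisj⟩ := Ideal.exists_le_prime_disjoint (Module.annihilator R (Q R C)) S (by
    rw [Set.disjoint_left]
    rintro r hr ⟨m, hm, rfl⟩
    obtain ⟨a, ha, hma⟩ := hc m hm
    refine hma (nsmul_mem_sq ha ?_)
    rw [← Nat.cast_smul_eq_nsmul R]
    exact Module.mem_annihilator.1 hr _)
  let p : PrimeSpectrum R := ⟨P, hP⟩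
  haveI : CharZero p.asIdeal.ResidueField := by
    refine charZero_of_inj_zero fun m hm => ?_
    by_contra hm0
    rw [← map_natCast (algebraMap R p.asIdeal.ResidueField), Ideal.algebraMap_residueField_eq_zero] at hm
    exact Set.disjoint_left.1 hdisj hm ⟨m, Nat.pos_of_ne_zero hm0, rfl⟩
  have hsupp : p ∈ Module.support R (Q R C) := by
    rw [Module.support_eq_zeroLocus]
    exact hann
  rw [Module.mem_support_iff_nontrivial_residueField_tensorProduct] at hsupp
  exact not_subsingleton _ (subsingleton_tensor_Q (R := R) (C := C) p)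

theorem powConv_counit (n : ℕ) : (Bialgebra.counitAlgHom R C).comp (SGA3b.powConv R C n) = Bialgebra.counitAlgHom R C := by
  have h := GrothLib.MultLocal.comp_powConv (Bialgebra.counitAlgHom R C) n
  have h1 : toConv (Bialgebra.counitAlgHom R C) = (1 : WithConv (C →ₐ[R] R)) := by
    apply ofConv_injective
    ext a
    simp
  rw [h1, one_pow, ← h1] at h
  exact toConv_injective h

theorem powConv_sub_mem_sq (m : ℕ) {a : C} (ha : a ∈ RingHom.ker (Bialgebra.counitAlgHom R C)) :
    SGA3b.powConv R C m a - (m : C) * a ∈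
      RingHom.ker (Bialgebra.counitAlgHom R C) * RingHom.ker (Bialgebra.counitAlgHom R C) := by
  set I := RingHom.ker (Bialgebra.counitAlgHom R C)
  let π : C →ₐ[R] C ⧸ I * I := Ideal.Quotient.mkₐ R (I * I)
  rw [← Ideal.Quotient.eq_zero_iff_mem]
  show π _ = 0
  rw [map_sub, map_mul, map_natCast, sub_eq_zero]
  induction m with
  | zero =>
    rw [SGA3b.powConv, pow_zero, Nat.cast_zero, zero_mul, AlgHom.convOne_apply,
      show counit (R := R) a = 0 from ha, map_zero, map_zero]
  | succ m ih =>
    have h : toConv (π.comp (SGA3b.powConv R C (m + 1))) = toConv (π.comp (SGA3b.powConv R C m)) * toConv π := by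
      rw [GrothLib.MultLocal.comp_powConv, GrothLib.MultLocal.comp_powConv, pow_succ]
    have h2 := congrArg (fun z : WithConv (C →ₐ[R] C ⧸ I * I) => z a) h
    simp only at h2
    rw [convMul_apply_of_first_order _ _ (fun p q hp hq => ?_) ha] at h2
    · change π (SGA3b.powConv R C (m + 1) a) = π (SGA3b.powConv R C m a) + π a at h2
      rw [h2, ih]
      push_cast
      ring
    · show π (SGA3b.powConv R C m p) * π q = 0
      rw [← map_mul]
      refine Ideal.Quotient.eq_zero_iff_mem.2 (Ideal.mul_mem_mul ?_ hq)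
      show Bialgebra.counitAlgHom R C (SGA3b.powConv R C m p) = 0
      exact (DFunLike.congr_fun (powConv_counit m) p).trans hp

theorem powConv_mul (k m : ℕ) :
    SGA3b.powConv R C (k * m) = (SGA3b.powConv R C k).comp (SGA3b.powConv R C m) := by
  apply toConv_injective
  rw [GrothLib.MultLocal.comp_powConv]
  show WithConv.toConv (WithConv.ofConv _) = WithConv.toConv (WithConv.ofConv _) ^ m
  simp only [toConv_ofConv, pow_mul]

theorem isUnit_toConv {Ω : Type u} [CommRing Ω] [Algebra R Ω] (χ : C →ₐ[R] Ω) :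
    IsUnit (toConv χ : WithConv (C →ₐ[R] Ω)) := by
  refine ⟨⟨toConv χ, toConv (χ.comp (HopfAlgebra.antipodeAlgHom R C)),
    WithConv.ext (AlgHom.ext fun a => ?_), WithConv.ext (AlgHom.ext fun a => ?_)⟩, rfl⟩
  all_goals
    let 𝓡 := ℛ R a
    rw [AlgHom.convMul_apply, AlgHom.convOne_apply, ← 𝓡.eq, map_sum]
    simp only [Algebra.TensorProduct.lift_tmul, ofConv_toConv, AlgHom.comp_apply, ← map_mul, ← map_sum]
    simp only [HopfAlgebra.antipodeAlgHom_apply]
  · rw [HopfAlgebra.sum_mul_antipode_eq_algebraMap_counit 𝓡, AlgHom.commutes]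
  · rw [HopfAlgebra.sum_antipode_mul_eq_algebraMap_counit 𝓡, AlgHom.commutes]

/-- A power map which is trivial on all points. -/
theorem exists_powConv_le_nilradical [Algebra.FiniteType R C] [Algebra.QuasiFinite R C] :
    ∃ n : ℕ, 0 < n ∧ Ideal.map (SGA3b.powConv R C n) (RingHom.ker (Bialgebra.counitAlgHom R C)) ≤ nilradical C := by
  obtain ⟨d, hd⟩ := GrothLib.Weight.exists_bound_algHom R C
  refine ⟨d.factorial, d.factorial_pos, Ideal.map_le_iff_le_comap.2 fun a ha => ?_⟩
  rw [Ideal.mem_comap, nilradical_eq_sInf, Ideal.mem_sInf]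
  intro q hq
  haveI : q.IsPrime := hq
  let χ : C →ₐ[R] q.ResidueField := IsScalarTower.toAlgHom R C q.ResidueField
  obtain ⟨hfin, hcard⟩ := hd q.ResidueField
  haveI : Finite (WithConv (C →ₐ[R] q.ResidueField)) := Finite.of_equiv _ (WithConv.equiv _).symm
  obtain ⟨v, hv⟩ := isUnit_toConv χ
  have hle : Nat.card (WithConv (C →ₐ[R] q.ResidueField))ˣ ≤ d :=
    ((Nat.card_le_card_of_injective _ Units.val_injective).trans_eq
      (Nat.card_congr (WithConv.equiv _))).trans hcard
  have h1 : v ^ d.factorial = 1 :=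
    orderOf_dvd_iff_pow_eq_one.1 ((orderOf_dvd_natCard v).trans (Nat.dvd_factorial Nat.card_pos hle))
  have h2 := GrothLib.MultLocal.comp_powConv χ d.factorial
  rw [← hv, ← Units.val_pow_eq_pow_val, h1, Units.val_one] at h2
  have h3 := congrArg (fun z : WithConv (C →ₐ[R] q.ResidueField) => z a) h2
  simp only [AlgHom.convOne_apply, show counit (R := R) a = 0 from ha, map_zero] at h3
  rw [← Ideal.algebraMap_residueField_eq_zero]
  exact h3

/-- **A quasi-finite finitely presented affine group is killed by an integer.** -/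
theorem exists_powConv_eq [Algebra.FinitePresentation R C] [Algebra.QuasiFinite R C] :
    ∃ n : ℕ, 0 < n ∧ ∀ c : C, SGA3b.powConv R C n c = algebraMap R C (counit (R := R) c) := by
  set I := RingHom.ker (Bialgebra.counitAlgHom R C)
  obtain ⟨n, hn, hnil⟩ := exists_powConv_le_nilradical (R := R) (C := C)
  obtain ⟨m, hm, hmI⟩ := exists_nat_mul_mem_sq (R := R) (C := C)
  let J : ℕ → Ideal C := fun i => Ideal.map (SGA3b.powConv R C i) I
  have hfg : I.FG := Algebra.FinitePresentation.ker_fG_of_surjective (Bialgebra.counitAlgHom R C)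
    fun r => ⟨algebraMap R C r, by simp⟩
  have hstep : ∀ k, J (k * m) ≤ J k * J k := fun k => Ideal.map_le_iff_le_comap.2 fun a ha => by
    rw [Ideal.mem_comap, powConv_mul, AlgHom.comp_apply, ← Ideal.map_mul]
    refine Ideal.mem_map_of_mem _ ?_
    have := Ideal.add_mem _ (powConv_sub_mem_sq m ha) (hmI a ha)
    rwa [sub_add_cancel] at this
  have hiter : ∀ i, J (n * m ^ i) ≤ J n ^ (2 ^ i) := fun i => by
    induction i with
    | zero => simp
    | succ i ih =>
      rw [pow_succ m, ← mul_assoc, pow_succ 2, pow_mul, pow_two]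
      exact (hstep _).trans (Ideal.mul_mono ih ih)
  obtain ⟨N, hN⟩ := (Ideal.FG.isNilpotent_iff_le_nilradical (hfg.map (SGA3b.powConv R C n : C →+* C))).2 hnil
  refine ⟨n * m ^ N, Nat.mul_pos hn (pow_pos hm N), fun c => ?_⟩
  have hbot : J (n * m ^ N) ≤ ⊥ := (hiter N).trans (((Ideal.pow_le_pow_right Nat.lt_two_pow_self.le)).trans_eq hN)
  have h0 : SGA3b.powConv R C (n * m ^ N) (c - algebraMap R C (Bialgebra.counitAlgHom R C c)) = 0 :=
    (Ideal.mem_bot).1 (hbot (Ideal.mem_map_of_mem _ (sub_mem_aug c)))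
  rw [map_sub, AlgHom.commutes, sub_eq_zero] at h0
  exact h0

end Hopf

end GrothLib.QFKill14
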